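import Cfsg.Agent.H489.S8.ONLam
import Cfsg.Agent.H535.Ore.ON
import Cfsg.Prelude.Def_DegreeGraph

/-!
# A necessary condition for the degrees of the O'Nan group (helper489)

* `okX_of`, `okX_on` : the degrees satisfy `ONLam.okX`.
-/

set_option autoImplicit false
set_option linter.unusedSectionVars false

open Cfsg Subgroup

namespace Cfsg.Agent.H489.S8.ONDeg

open Cfsg.Agent.Characters.Core
open Cfsg.Agent.H653.Sieve (deg deg_cast one_of_deg)
open Cfsg.Agent.H653.Sys
open Cfsg.Agent.H210.On7 (Data)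
open Cfsg.Agent.H535.K4.ON
open Cfsg.Agent.H535.Ore.ON
open Cfsg.Agent.H489.S8.ONCert Cfsg.Agent.H489.S8.ONLam

universe u

theorem okX_of {G : Type u} [Group G] [Finite G] [IsSimpleGroup G] (hG : ¬ IsMulCommutative G) (Δ : Data G)
    (χ : IrrCharacter G) : okX (deg χ) = true := by
  classical
  have := finite_irr (G := G)
  have := Fintype.ofFinite (IrrCharacter G)
  obtain ⟨Ws, hs⟩ := exists_sys' hG Δ
  have hN : Nat.card G = NN := Δ.card
  by_cases h1 : deg χ = 1
  · rw [okX, h1]
    rfl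
  have hχ1 : (χ : G → ℂ) ≠ 1 := by
    intro h
    apply h1
    unfold deg charDegree
    rw [h]
    simp
  have hdvd : deg χ ∣ NN := by
    rw [← hN]
    exact Blocks.Knorr.charDegree_dvd χ.2
  have hlt : deg χ * deg χ < NN := by
    have hsq : ∑ χ : IrrCharacter G, deg χ * deg χ = NN := by
      have h3 := SmallSimple.DegreeData.sum_sq (G := G)
      rw [← hN, ← h3]
      exact Finset.sum_congr rfl fun χ _ => by unfold deg; ring
    obtain ⟨χ₁, hχ₁⟩ : ∃ χ₁ : IrrCharacter G, (χ₁ : G → ℂ) = 1 := ⟨⟨1, isIrr_one⟩, rfl⟩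
    have hne : χ ≠ χ₁ := fun h => hχ1 (by rw [h, hχ₁])
    have hd1 : deg χ₁ = 1 := by
      unfold deg charDegree
      rw [hχ₁]
      simp
    have h4 : ∑ χ' ∈ ({χ, χ₁} : Finset (IrrCharacter G)), deg χ' * deg χ' ≤
        ∑ χ' : IrrCharacter G, deg χ' * deg χ' :=
      Finset.sum_le_sum_of_subset (Finset.subset_univ _)
    rw [Finset.sum_pair hne, hsq, hd1] at h4
    omega
  have e1 : Nat.beq (NN % deg χ) 0 = true := by
    rw [Nat.beq_eq]
    exact Nat.mod_eq_zero_of_dvd hdvd
  have e2 : Nat.ble NN (deg χ * deg χ) = false := by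
    rw [Bool.eq_false_iff]
    intro h
    exact absurd (Nat.le_of_ble_eq_true h) (by omega)
  have e3 : (allV Gs (deg χ) fun _ => false) = false := by
    rw [Bool.eq_false_iff]
    intro h
    exact Bool.false_ne_true (allV_spec hs χ h)
  have key : ∀ {n : ℕ}, deg χ ≠ n → Nat.beq (deg χ) n = false := by
    intro n h
    rw [Bool.eq_false_iff]
    exact fun h' => h (Nat.eq_of_beq_eq_true h')
  rw [okX, e1, e2, e3,
    key (no_deg hG Δ 32736 a_32736 m_32736 (by norm_num [m_32736]) cs_32736 cert_32736 all_32736 χ),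
    key (no_deg hG Δ 45276 a_45276 m_45276 (by norm_num [m_45276]) cs_45276 cert_45276 all_45276 χ),
    key (no_deg hG Δ 46872 a_46872 m_46872 (by norm_num [m_46872]) cs_46872 cert_46872 all_46872 χ),
    key (no_deg hG Δ 291060 a_291060 m_291060 (by norm_num [m_291060]) cs_291060 cert_291060 all_291060 χ),
    key (no_deg hG Δ 318990 a_318990 m_318990 (by norm_num [m_318990]) cs_318990 cert_318990 all_318990 χ),
    key (no_deg hG Δ 343728 a_343728 m_343728 (by norm_num [m_343728]) cs_343728 cert_343728 all_343728 χ),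
    key (no_deg hG Δ 654720 a_654720 m_654720 (by norm_num [m_654720]) cs_654720 cert_654720 all_654720 χ)]
  simp

open Cfsg.Spor (ON)
open Cfsg.Agent.KFacts.ON.Cent (hON finite_ON)

/-- the degrees of `O'N` -/
theorem okX_on {d : ℕ} (h : d ∈ charDegrees ON) : okX d = true := by
  have hfin := finite_ON
  have hs : IsSimpleGroup ON := hON.1
  obtain ⟨Δ⟩ := H210.On7.exists_data
  obtain ⟨χ, rfl⟩ := h
  exact okX_of not_comm Δ χ

end Cfsg.Agent.H489.S8.ONDeg
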