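import Cfsg.Agent.H489.S8.ONCore
import Cfsg.Agent.H489.S8.ONDeg
import Cfsg.Agent.H109.S8.AutDeg
import Cfsg.Agent.H704.S8.Defs3
import Cfsg.Agent.H95.StemCover
import Cfsg.Agent.H681.DegBasic
import Cfsg.Agent.S2052
import Cfsg.Agent.S2078

/-!
# S4908, row O'N, COVER (helper489)

* `cover'` : the form `H704.S8.Cover'`;
* `cover3` : the final form `H704.S8.Cover3`.
-/

set_option autoImplicit false

open Cfsg Subgroup

namespace Cfsg.Agent.H489.S8.ON

open Cfsg.Agent.Characters.Core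
open Cfsg.Agent.H489.S8.ONLam
open Cfsg.Agent.H704.S8 (Deg Cover' Cover3)
open Cfsg.Spor (ON)
open Cfsg.Agent.KFacts.ON.Cent (hON finite_ON)

universe u v

variable {X : Type v} [Group X]

theorem finite_of (hX : Spor.IsoON X) : Finite X := by
  have := finite_ON
  obtain ⟨e⟩ := hX
  exact Finite.of_equiv _ e.symm.toEquiv

theorem okX_deg (hX : Spor.IsoON X) {d : ℕ} (h : d ∈ charDegrees X) : okX d = true := by
  obtain ⟨e⟩ := hX
  rw [H424.DegTools.charDegrees_congr e] at h
  exact H489.S8.ONDeg.okX_on h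

theorem center_eq (hX : Spor.IsoON X) : center X = ⊥ := by
  obtain ⟨e⟩ := hX
  have hs : IsSimpleGroup ON := hON.1
  have hsX : IsSimpleGroup X := e.isSimpleGroup
  rcases (inferInstance : (center X).Normal).eq_bot_or_eq_top with h | h
  · exact h
  · exfalso
    apply H535.Ore.ON.not_comm
    refine ⟨⟨fun a b => ?_⟩⟩
    have h1 : e.symm b ∈ center X := by rw [h]; exact mem_top _
    have h2 := mem_center_iff.1 h1 (e.symm a)
    apply e.symm.injective
    rw [map_mul, map_mul]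
    exact h2

theorem index_inn (hX : Spor.IsoON X) : (MulAut.conj : X →* MulAut X).range.index = 2 := by
  obtain ⟨e⟩ := hX
  rw [← H55.OutGen.card_out_eq_index, H55.OutGen.card_out_congr e]
  exact S2078.result

/-- the degrees of `O'N` and of `Aut O'N` -/
theorem deg_sub (hX : Spor.IsoON X) {D : Set ℕ} (hD : Deg 2 X D) {d : ℕ} (hd : d ∈ D) :
    okX d = true ∨ ∃ f : ℕ, d = 2 * f ∧ okX f = true := by
  have := finite_of hX
  rcases hD with rfl | ⟨-, rfl⟩
  · exact Or.inl (okX_deg hX hd)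
  · rcases H109.S8.deg_aut (center_eq hX) (index_inn hX) hd with h | ⟨χ, χ', f, -, h4, -, h6⟩
    · exact Or.inl (okX_deg hX h)
    · exact Or.inr ⟨f, h6, okX_deg hX (H424.DegTools.mem_charDegrees.2 ⟨χ, χ.2, h4⟩)⟩

/-- a good number is not a degree, nor is its double -/
theorem not_mem_of_good (hX : Spor.IsoON X) {D : Set ℕ} (hD : Deg 2 X D) {x : ℕ} (h : good x = true) :
    x ∉ D ∧ 2 * x ∉ D := by
  rw [good, Bool.and_eq_true, Bool.and_eq_true, Bool.not_eq_true', Bool.not_eq_true', Bool.not_eq_true'] at h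
  obtain ⟨⟨h1, h2⟩, h3⟩ := h
  constructor
  · intro hx
    rcases deg_sub hX hD hx with h4 | ⟨f, rfl, h4⟩
    · rw [h4] at h1
      exact Bool.noConfusion h1
    · rw [show 2 * f % 2 = 0 by omega, show 2 * f / 2 = f by omega, h4] at h3
      exact Bool.noConfusion h3
  · intro hx
    rcases deg_sub hX hD hx with h4 | ⟨f, h5, h4⟩
    · rw [h4] at h2
      exact Bool.noConfusion h2
    · have h6 : x = f := by omega
      rw [h6, h4] at h1
      exact Bool.noConfusion h1

/-- **COVER for `O'N`** -/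
theorem cover' (hX : Spor.IsoON X) {D : Set ℕ} (hD : Deg 2 X D) {N : Type u} [Group N] [Finite N] (V : Subgroup N)
    [V.Normal] (r : ℕ) (hr : r.Prime) (hV : Nat.card V = r) (hc : V ≤ center N) (hp : commutator N = ⊤)
    (he : Nonempty ((N ⧸ V) ≃* X)) (i : ℕ) :
    ∃ (χ : N → ℂ) (d : ℕ), IsIrrCharacter N χ ∧ (∃ v ∈ V, χ v ≠ χ 1) ∧ χ 1 = d ∧
      d * r ^ i ∉ D ∧ 2 * (d * r ^ i) ∉ D := by
  obtain ⟨f⟩ := he
  obtain ⟨e⟩ := id hX
  let π : N →* ON := (f.trans e).toMonoidHom.comp (QuotientGroup.mk' V)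
  have hπ : Function.Surjective π := (f.trans e).surjective.comp (QuotientGroup.mk'_surjective V)
  have hker : π.ker = V := by
    ext x
    rw [MonoidHom.mem_ker]
    change (f.trans e) (QuotientGroup.mk' V x) = 1 ↔ _
    rw [map_eq_one_iff _ (f.trans e).injective, QuotientGroup.mk'_apply, QuotientGroup.eq_one_iff]
  have h1 := H95.StemCover.card_ker_dvd_cyclic S2052.result hp π hπ (by rw [hker]; exact hc)
  rw [hker, hV] at h1
  obtain rfl : r = 3 := (Nat.prime_dvd_prime_iff_eq hr Nat.prime_three).1 h1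
  obtain ⟨χ, h2, h3⟩ := ONCore.core hV hc hp (f.trans e) i
  exact ⟨χ, charDegree (χ : N → ℂ), χ.2, h2, Blocks.Basic.irr_one_eq_charDegree χ.2, not_mem_of_good hX hD h3⟩

/-- **COVER for `O'N`**, final form -/
theorem cover3 (hX : Spor.IsoON X) (D : Set ℕ) (hD : Deg 2 X D) : Cover3.{u} 2 D X := by
  intro N _ _ V _ r hr hV hc hp he i _
  obtain ⟨χ, d, h1, h2, h3, h4, h5⟩ := cover' hX hD V r hr hV hc hp he i
  exact ⟨χ, d, h1, h2, h3, h4, Or.inl h5⟩

/-- **COVER for `O'N`**, the form `Cover'` -/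
theorem cover_weak (hX : Spor.IsoON X) (D : Set ℕ) (hD : Deg 2 X D) : Cover'.{u} D X := by
  intro N _ _ V _ r hr hV hc hp he i
  exact cover' hX hD V r hr hV hc hp he i

end Cfsg.Agent.H489.S8.ON
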