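import Cfsg.Agent.H535.Ore.ONCert

/-!
# Certificates: degrees which the O'Nan group does not have (helper489)

Used for the row O'N, COVER, of S4908.
-/

set_option autoImplicit false

namespace Cfsg.Agent.H489.S8.ONCert

open Cfsg.Agent.H653.Sieve (allDiv facProd Cf)
open Cfsg.Agent.H653.Sys
open Cfsg.Agent.H535.K4.ON
open Cfsg.Agent.H535.Ore.ON (fam3i Gs)

/-- certificate -/
def a_32736 : ℤ := 25
/-- certificate -/
def cs_32736 : List Cf :=
    [⟨1761235, -24775027200, 0, [200594994353, 111036222419, 3427184458, 49900636422, -41867851469]⟩,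
    ⟨-1458861, -261334212007, 0, [156313385408, 3574340290, -110425750505, 82815166357]⟩, ⟨7924995,
    509687214745, 0, [28846072949, -192991223813, 48818927271]⟩, ⟨220107, 407481189, 0, [-679650685,
    -955096956]⟩, ⟨-953796, -8533620480, 0, [7387490449]⟩, ⟨277033, -1560340104, 0, []⟩]
/-- certificate -/
def m_32736 : ℤ := -460815505920

theorem cert_32736 : certOK NN a_32736 cs_32736 [⟨fun d => Nat.beq d 32736, m_32736, m_32736⟩] Gs = true := by decide +kernel

theorem all_32736 :
    allDiv NN (okD NN a_32736 cs_32736 [⟨fun d => Nat.beq d 32736, m_32736, m_32736⟩] Gs (fun _ => false)) facs 1 = true := by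
  decide +kernel

/-- certificate -/
def a_45276 : ℤ := 31
/-- certificate -/
def cs_45276 : List Cf :=
    [⟨2275338, -24775027200, 0, [570586595655, 808319670122, 20784815136, -370264524077, 162382112545]⟩,
    ⟨2073438, -865004719395, 0, [61343995458, 3574340290, -236793875693, 155515602810]⟩, ⟨17611570,
    2474758749180, 0, [131135345414, -225865969869, 48818927271]⟩, ⟨464522, 1736089957, 0, [-5328943847,
    923102456]⟩, ⟨-179975, -8533620480, 0, [-119055052380]⟩, ⟨-178784, 61660931310, 0, []⟩]
/-- certificate -/
def m_45276 : ℤ := -460815505920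

theorem cert_45276 : certOK NN a_45276 cs_45276 [⟨fun d => Nat.beq d 45276, m_45276, m_45276⟩] Gs = true := by decide +kernel

theorem all_45276 :
    allDiv NN (okD NN a_45276 cs_45276 [⟨fun d => Nat.beq d 45276, m_45276, m_45276⟩] Gs (fun _ => false)) facs 1 = true := by
  decide +kernel

/-- certificate -/
def a_46872 : ℤ := 23
/-- certificate -/
def cs_46872 : List Cf :=
    [⟨1637088, -24775027200, 0, [216080718653, 189087126069, 3427184458, 29454754560, -22855044541]⟩,
    ⟨-1073355, -286600393760, 0, [72608760855, 4759667335, -141220261543, 83871061566]⟩, ⟨8497221,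
    729648852303, 0, [34820339648, -143448342741, 48818927271]⟩, ⟨210604, 407481189, 0, [-2719150646,
    737457582]⟩, ⟨-1183058, -8533620480, 0, [14132680149]⟩, ⟨495508, -4932934954, 0, []⟩]
/-- certificate -/
def m_46872 : ℤ := -460815505920

theorem cert_46872 : certOK NN a_46872 cs_46872 [⟨fun d => Nat.beq d 46872, m_46872, m_46872⟩] Gs = true := by decide +kernel

theorem all_46872 :
    allDiv NN (okD NN a_46872 cs_46872 [⟨fun d => Nat.beq d 46872, m_46872, m_46872⟩] Gs (fun _ => false)) facs 1 = true := by
  decide +kernel

/-- certificate -/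
def a_291060 : ℤ := 36
/-- certificate -/
def cs_291060 : List Cf :=
    [⟨2700968, -24775027200, 0, [708123693170, 1045883747648, 21250104870, -588805415894, 280213991443]⟩,
    ⟨3003860, -1089407352182, 0, [61343995458, 13342714277, -258403422087, 152351722182]⟩, ⟨21617664,
    3144257513116, 0, [150630533528, -177610620294, 48818927271]⟩, ⟨502598, 1771704727, 0, [106119850,
    -1139109830]⟩, ⟨415160, -8533620480, 0, [-185586241905]⟩, ⟨-375206, 94926526073, 0, []⟩]
/-- certificate -/
def m_291060 : ℤ := -460815505920

theorem cert_291060 : certOK NN a_291060 cs_291060 [⟨fun d => Nat.beq d 291060, m_291060, m_291060⟩] Gs = true := by decide +kernel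

theorem all_291060 :
    allDiv NN (okD NN a_291060 cs_291060 [⟨fun d => Nat.beq d 291060, m_291060, m_291060⟩] Gs (fun _ => false)) facs 1 = true := by
  decide +kernel

/-- certificate -/
def a_318990 : ℤ := 37
/-- certificate -/
def cs_318990 : List Cf :=
    [⟨2790692, -24775027200, 0, [717236722403, 1061624434505, 21523665176, -581875759370, 273719505199]⟩,
    ⟨2965130, -1104275978826, 0, [61343995458, 13593919550, -267167064916, 161676669776]⟩, ⟨22056484,
    3188617630625, 0, [152606318906, -194686874369, 48818927271]⟩, ⟨512697, 1792643911, 0, [-251615195,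
    -1192142054]⟩, ⟨327222, -8533620480, 0, [-181213831927]⟩, ⟨-367030, 92740321083, 0, []⟩]
/-- certificate -/
def m_318990 : ℤ := -460815505920

theorem cert_318990 : certOK NN a_318990 cs_318990 [⟨fun d => Nat.beq d 318990, m_318990, m_318990⟩] Gs = true := by decide +kernel

theorem all_318990 :
    allDiv NN (okD NN a_318990 cs_318990 [⟨fun d => Nat.beq d 318990, m_318990, m_318990⟩] Gs (fun _ => false)) facs 1 = true := by
  decide +kernel

/-- certificate -/
def a_343728 : ℤ := 85
/-- certificate -/
def cs_343728 : List Cf :=
    [⟨6536694, -52483939200, 0, [449390095046, -222203803500, 12235343188, 42197825445, 43561318236]⟩,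
    ⟨-7238304, -606787428836, 17684805600, [1228320084870, 5055105284, -291644733580, 45431746317]⟩, ⟨18641363,
    -295818566400, 0, [33425990132, 171975373175, 103419043298]⟩, ⟨688323, 1259093484, 0, [-8502957341,
    9223377551]⟩, ⟨-4517753, -18077801280, 0, [-28778886165]⟩, ⟨2945546, 20739270782, 0, []⟩]
/-- certificate -/
def m_343728 : ℤ := -976201269120

theorem cert_343728 : certOK NN a_343728 cs_343728 [⟨fun d => Nat.beq d 343728, m_343728, m_343728⟩] Gs = true := by decide +kernel

theorem all_343728 :
    allDiv NN (okD NN a_343728 cs_343728 [⟨fun d => Nat.beq d 343728, m_343728, m_343728⟩] Gs (fun _ => false)) facs 1 = true := by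
  decide +kernel

/-- certificate -/
def a_654720 : ℤ := 360
/-- certificate -/
def cs_654720 : List Cf :=
    [⟨27488593, -247750272000, 0, [6983330966971, 10289727173766, 205384333155, -5617885892876,
    2644612861040]⟩, ⟨28100545, -10734332210953, 0, [613439954582, 137544589214, -2613501552804,
    1574868284156]⟩, ⟨215528432, 30965991550796, 0, [1473304891537, -1902602663117, 488189272710]⟩, ⟨4978559,
    17172311014, 0, [-636030439, -12260336996]⟩, ⟨2803027, -85336204800, 0, [-1751303695395]⟩, ⟨-3342917,
    896985898898, 0, []⟩]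
/-- certificate -/
def m_654720 : ℤ := -4608155059200

theorem cert_654720 : certOK NN a_654720 cs_654720 [⟨fun d => Nat.beq d 654720, m_654720, m_654720⟩] Gs = true := by decide +kernel

theorem all_654720 :
    allDiv NN (okD NN a_654720 cs_654720 [⟨fun d => Nat.beq d 654720, m_654720, m_654720⟩] Gs (fun _ => false)) facs 1 = true := by
  decide +kernel

end Cfsg.Agent.H489.S8.ONCert
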