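import Cfsg.Agent.H489.S8.ONCert

/-!
# Certificates: the degrees of the characters over a nontrivial character of the kernel of `3.O'N → O'N` (helper489)

`okX` : a necessary condition for degrees of `O'N`; `chkL` : the certificate for the columns of the primes 19 and 11.
-/

set_option autoImplicit false

namespace Cfsg.Agent.H489.S8.ONLam

open Cfsg.Agent.H653.Sieve (allDiv facProd Cf)
open Cfsg.Agent.H653.Sys
open Cfsg.Agent.H535.K4.ON
open Cfsg.Agent.H535.Ore.ON (fam3i Gs)

/-- a necessary condition for degrees of `O'N` -/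
def okX (x : ℕ) : Bool :=
  Nat.beq x 1 || (Nat.beq (NN % x) 0 && !(Nat.ble NN (x * x)) && !(allV Gs x fun _ => false) &&
    !(Nat.beq x 32736 || Nat.beq x 45276 || Nat.beq x 46872 || Nat.beq x 291060 || Nat.beq x 318990 ||
      Nat.beq x 343728 || Nat.beq x 654720))

/-- `x` and `2 x` are not degrees of `O'N` or `Aut O'N` -/
def good (x : ℕ) : Bool :=
  !(okX x) && !(okX (2 * x)) && !(Nat.beq (x % 2) 0 && okX (x / 2))

/-- the check for one degree -/
def okL (m : ℕ) (a g q r h s x : ℤ) (d : ℕ) : Bool :=
  bif !(Nat.beq (d % 3) 0) then true else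
    bif good (d * m) then true else
      ([0, 3, -3, 1, -1] : List ℤ).all fun w => bif !(Nat.beq (((d : ℤ) + 6 * w) % 19).natAbs 0) then true else
        ([0, 1, -1] : List ℤ).all fun v => bif !(Nat.beq (((d : ℤ) + 10 * v) % 11).natAbs 0) then true else
          decide (0 ≤ a * (d * d) + g * (w * d) + q * (w * w) + r * (bif Nat.beq w.natAbs 1 then 1 else 0) +
            h * (v * d) + s * (v * v) + x * (w * v))

/-- the total -/
def totL (a q r s : ℤ) : Bool := decide (a * 460815505920 + q * 57 + r * 3 + s * 11 < 0)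

theorem tot0 : totL 0 (-1212672384) 7680258432 0 = true := by decide +kernel
theorem tot1 : totL 0 0 0 (-418923) = true := by decide +kernel
theorem tot2 : totL 1 (-8639905026) 10553026853 0 = true := by decide +kernel
theorem tot3 : totL 1 (-41399924783) 37145455337 (-214526882964) = true := by decide +kernel

theorem chk0 : allDiv NN (okL 1 0 56448 (-1212672384) 7680258432 0 0 3590770176) facs 1 = true := by decide +kernel
theorem chk1 : allDiv NN (okL 3 0 0 0 0 (-2) (-418923) (-184032)) facs 1 = true := by decide +kernel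
theorem chk2 : allDiv NN (okL 9 1 (-935055) (-8639905026) 10553026853 0 0 (-19667540529)) facs 1 = true := by
  decide +kernel
theorem chk3 : allDiv NN (okL 27 1 (-460440) (-41399924783) 37145455337 (-1048128) (-214526882964) 218600324142)
    facs 1 = true := by decide +kernel

/-- `d 3 ^ i`, `4 ≤ i`, `3 ∣ d` -/
theorem okX_dvd {x : ℕ} (h : okX x = true) : x ∣ NN := by
  rw [okX, Bool.or_eq_true, Bool.and_eq_true, Bool.and_eq_true, Bool.and_eq_true] at h
  rcases h with h | h
  · rw [Nat.eq_of_beq_eq_true h]
    exact one_dvd _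
  · exact Nat.dvd_of_mod_eq_zero (Nat.eq_of_beq_eq_true h.1.1.1)

end Cfsg.Agent.H489.S8.ONLam
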