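import Cfsg.Agent.H489.S8.Over
import Cfsg.Agent.H489.S8.ONLam
import Cfsg.Agent.H109.S8.CovCore
import Cfsg.Agent.H210.On7.Loc

/-!
# The characters over a nontrivial character of the kernel of a perfect central extension `3.O'N` (helper489)

* `core` : for every `i` there is a character of degree `d`, nontrivial on the kernel, with `ONLam.good (d * 3 ^ i)`.
-/

set_option autoImplicit false
set_option linter.unusedSectionVars false

open Cfsg Subgroup

namespace Cfsg.Agent.H489.S8.ONCore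

open Cfsg.Agent.Characters.Core
open Cfsg.Agent.H622.Over Cfsg.Agent.H382.RIM
open Cfsg.Agent.H653.Sieve (csum csum_eq csum_eq_erase deg deg_cast allDiv allDiv_spec facProd)
open Cfsg.Agent.H535.K4.ON (NN facs facs_prime facs_prod)
open Cfsg.Agent.H489.S8.ONLam
open Cfsg.Spor (ON)
open Cfsg.Agent.KFacts.ON.Cent (hON finite_ON)

universe u v

/-- local data and isomorphisms -/
theorem loc {A : Type u} {B : Type v} [Group A] [Finite A] [Group B] (e : A ≃* B) {p m : ℕ} (hp : p.Prime)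
    (hd : p ∣ Nat.card A)
    (h : ∀ Q : Subgroup B, Nat.card Q = p → Nat.card (centralizer (Q : Set B)) = p ∧
      Nat.card (normalizer (Q : Set B)) = p * m) :
    ∃ y : A, orderOf y = p ∧ Nat.card (centralizer ({y} : Set A)) = p * 1 ∧
      Nat.card (normalizer ((zpowers y : Subgroup A) : Set A)) = m * (p * 1) := by
  have : Fact p.Prime := ⟨hp⟩
  obtain ⟨y, hy⟩ := exists_prime_orderOf_dvd_card' p hd
  have hQ : Nat.card ((zpowers y).map e.toMonoidHom) = p := by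
    rw [← Nat.card_congr ((zpowers y).equivMapOfInjective e.toMonoidHom e.injective).toEquiv, Nat.card_zpowers, hy]
  obtain ⟨h1, h2⟩ := h _ hQ
  refine ⟨y, hy, ?_, ?_⟩
  · have h3 : (centralizer ({y} : Set A)).map e.toMonoidHom =
        centralizer (((zpowers y).map e.toMonoidHom : Subgroup B) : Set B) := by
      ext b
      rw [mem_centralizer_iff]
      constructor
      · rintro ⟨a, ha, rfl⟩ _ ⟨q, hq, rfl⟩
        have hay : Commute a y := mem_centralizer_singleton_iff.1 ha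
        obtain ⟨k, rfl⟩ := hq
        have h4 := (hay.zpow_right k).eq
        change e (y ^ k) * e a = e a * e (y ^ k)
        rw [← map_mul, ← map_mul, h4]
      · intro hb
        refine ⟨e.symm b, ?_, e.apply_symm_apply b⟩
        refine mem_centralizer_singleton_iff.2 (e.injective ?_)
        rw [map_mul, map_mul, e.apply_symm_apply]
        exact (hb (e y) ⟨y, mem_zpowers y, rfl⟩).symm
    rw [mul_one, ← h1, ← h3]
    exact Nat.card_congr (Subgroup.equivMapOfInjective _ e.toMonoidHom e.injective).toEquiv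
  · rw [mul_one, mul_comm m p, ← h2, ← Subgroup.map_equiv_normalizer_eq (zpowers y) e]
    exact Nat.card_congr (Subgroup.equivMapOfInjective _ e.toMonoidHom e.injective).toEquiv

section

variable {N : Type u} [Group N] [Finite N]

/-- the congruence for the values of a column -/
theorem dvd_of [Fintype (IrrCharacter N)] {χ : IrrCharacter N} {H : Subgroup N} {e : ℕ} {w : ℤ} (h : (e : ℂ) * w = csum H (χ : N → ℂ)) :
    (Nat.card H : ℤ) ∣ (deg χ : ℤ) + e * w := by
  have := Fintype.ofFinite H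
  obtain ⟨m, hm⟩ := SmallSimple.TheoremBCor.exists_sum_eq (isIrr_isCharacter χ.2) H
  rw [csum_eq, hm, deg_cast] at h
  refine ⟨m, ?_⟩
  have h2 : (((deg χ : ℤ) + e * w : ℤ) : ℂ) = ((Nat.card H * m : ℤ) : ℂ) := by
    push_cast
    linear_combination h
  exact_mod_cast h2

/-- the columns of a prime over `l` -/
theorem exists_col [Fintype (IrrCharacter N)] {V : Subgroup N} [V.Normal] (hV : Nat.card V = 3) (hc : V ≤ center N)
    (l : V →* ℂˣ) {p e t : ℕ} [hp : Fact p.Prime] (hp3 : p ≠ 3) (ht : e * t = p - 1)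
    (hsq : ¬ p ^ 2 ∣ Nat.card (N ⧸ V))
    (hy : ∃ y : N ⧸ V, orderOf y = p ∧ Nat.card (centralizer ({y} : Set (N ⧸ V))) = p * 1 ∧
      Nat.card (normalizer ((zpowers y : Subgroup (N ⧸ V)) : Set (N ⧸ V))) = e * (p * 1)) :
    ∃ (P : Subgroup N) (W : IrrCharacter N → ℤ), Nat.card P = p ∧
      (∀ χ ∈ ov V l, (e : ℂ) * W χ = csum P (χ : N → ℂ)) ∧
      (∀ χ ∈ ov V l, W χ = 0 ∨ W χ = t ∨ W χ = -t ∨ W χ = 1 ∨ W χ = -1) ∧
      (∀ g : N, ¬ p ∣ orderOf g → ∑ χ ∈ ov V l, (W χ : ℂ) * (χ : N → ℂ) g = 0) ∧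
      ∑ χ ∈ ov V l, W χ * W χ = (t * p : ℕ) ∧
      (t ≠ 1 → ∑ χ ∈ ov V l, (bif Nat.beq (W χ).natAbs 1 then (1 : ℤ) else 0) = t) := by
  obtain ⟨y, hy1, hy2, hy3⟩ := hy
  have hpV : ¬ p ∣ Nat.card V := by
    rw [hV]
    exact fun h => hp3 ((Nat.prime_dvd_prime_iff_eq hp.out Nat.prime_three).1 h)
  obtain ⟨P, K, hP, hK, hZK, hcK, hw, -, -⟩ := H849.RIM.setup hc hpV hsq hy1 hy2 hy3
  have hKV : V = K := Subgroup.eq_of_le_of_card_ge hZK (by rw [hcK, one_mul])
  subst hKV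
  obtain ⟨W, h1, h2, h3, h4, h5⟩ := exists_col_over hK hP hc hw ht l
  exact ⟨P, W, hP, h1, h2, h3, h4, h5⟩

theorem sum_col_deg [Fintype (IrrCharacter N)] {S : Finset (IrrCharacter N)} {W : IrrCharacter N → ℤ} {p : ℕ}
    (hp : p.Prime) (h : ∀ g : N, ¬ p ∣ orderOf g → ∑ χ ∈ S, (W χ : ℂ) * (χ : N → ℂ) g = 0) :
    ∑ χ ∈ S, W χ * (deg χ : ℤ) = 0 := by
  have h1 := h 1 (by rw [orderOf_one]; exact hp.one_lt.ne' ∘ Nat.dvd_one.1)
  have h2 : ((∑ χ ∈ S, W χ * (deg χ : ℤ) : ℤ) : ℂ) = 0 := by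
    rw [← h1]
    push_cast
    refine Finset.sum_congr rfl fun χ _ => ?_
    rw [deg_cast]
  exact_mod_cast h2

theorem sum_col_col [Fintype (IrrCharacter N)] {S : Finset (IrrCharacter N)} {W W' : IrrCharacter N → ℤ} {p q e : ℕ}
    {Q : Subgroup N} (hq : q.Prime) (hp : p.Prime) (hpq : p ≠ q) (he : e ≠ 0) (hQ : Nat.card Q = q)
    (h : ∀ g : N, ¬ p ∣ orderOf g → ∑ χ ∈ S, (W χ : ℂ) * (χ : N → ℂ) g = 0)
    (h' : ∀ χ ∈ S, (e : ℂ) * W' χ = csum Q (χ : N → ℂ)) : ∑ χ ∈ S, W χ * W' χ = 0 := by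
  classical
  have := Fintype.ofFinite Q
  have h1 : (e : ℂ) * ((∑ χ ∈ S, W χ * W' χ : ℤ) : ℂ) = 0 := by
    have h2 : (e : ℂ) * ((∑ χ ∈ S, W χ * W' χ : ℤ) : ℂ) =
        ∑ χ ∈ S, ∑ x ∈ (Finset.univ : Finset Q).erase 1, (W χ : ℂ) * (χ : N → ℂ) x := by
      push_cast
      rw [Finset.mul_sum]
      refine Finset.sum_congr rfl fun χ hχ => ?_
      rw [← Finset.mul_sum, ← csum_eq_erase, ← h' χ hχ]
      ring
    rw [h2, Finset.sum_comm, Finset.sum_eq_zero]
    intro x _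
    apply h
    intro hd
    have h3 : orderOf (x : N) ∣ q := by
      rw [← hQ, Subgroup.orderOf_coe]
      exact orderOf_dvd_natCard x
    exact hpq ((Nat.prime_dvd_prime_iff_eq hp hq).1 (hd.trans h3))
  have h3 : ((∑ χ ∈ S, W χ * W' χ : ℤ) : ℂ) = 0 := (mul_eq_zero.1 h1).resolve_left (by exact_mod_cast he)
  exact_mod_cast h3

theorem natAbs_mod {a n : ℤ} (h : n ∣ a) : (!(Nat.beq (a % n).natAbs 0)) = false := by
  rw [Int.emod_eq_zero_of_dvd h]
  rfl

instance fact11 : Fact (Nat.Prime 11) := ⟨by norm_num⟩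
instance fact19 : Fact (Nat.Prime 19) := ⟨by norm_num⟩

/-- the facts about the characters over a nontrivial `l` -/
structure Sys [Fintype (IrrCharacter N)] (S : Finset (IrrCharacter N)) (A B : IrrCharacter N → ℤ) : Prop where
  a : ∀ χ ∈ S, A χ ∈ ([0, 3, -3, 1, -1] : List ℤ)
  b : ∀ χ ∈ S, B χ ∈ ([0, 1, -1] : List ℤ)
  a19 : ∀ χ ∈ S, (19 : ℤ) ∣ (deg χ : ℤ) + 6 * A χ
  b11 : ∀ χ ∈ S, (11 : ℤ) ∣ (deg χ : ℤ) + 10 * B χ
  three : ∀ χ ∈ S, 3 ∣ deg χ
  dvd : ∀ χ ∈ S, deg χ ∣ NN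
  lt : ∀ χ ∈ S, deg χ * deg χ < NN
  sum : ∑ χ ∈ S, (deg χ : ℤ) * deg χ = 460815505920
  aa : ∑ χ ∈ S, A χ * A χ = 57
  bb : ∑ χ ∈ S, B χ * B χ = 11
  ab : ∑ χ ∈ S, A χ * B χ = 0
  ad : ∑ χ ∈ S, A χ * (deg χ : ℤ) = 0
  bd : ∑ χ ∈ S, B χ * (deg χ : ℤ) = 0
  fl : ∑ χ ∈ S, (bif Nat.beq (A χ).natAbs 1 then (1 : ℤ) else 0) = 3

theorem Sys.exists_good [Fintype (IrrCharacter N)] {S : Finset (IrrCharacter N)} {A B : IrrCharacter N → ℤ}
    (h : Sys S A B) (m : ℕ) (a g q r k s x : ℤ) (ht : totL a q r s = true)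
    (hchk : allDiv NN (okL m a g q r k s x) facs 1 = true) : ∃ χ ∈ S, good (deg χ * m) = true := by
  by_contra hcon
  push Not at hcon
  have hpr : ∀ pa ∈ facs, pa.1.Prime := by
    intro pa hpa
    have := List.all_eq_true.1 facs_prime pa hpa
    simpa using this
  have h1 : ∀ χ ∈ S, 0 ≤ a * ((deg χ : ℤ) * deg χ) + g * (A χ * deg χ) + q * (A χ * A χ) +
      r * (bif Nat.beq (A χ).natAbs 1 then 1 else 0) + k * (B χ * deg χ) + s * (B χ * B χ) + x * (A χ * B χ) := by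
    intro χ hχ
    have h2 := allDiv_spec hpr hchk (deg χ) (by rw [facs_prod]; exact h.dvd χ hχ) (by rw [one_mul]; exact h.lt χ hχ)
    rw [one_mul, okL] at h2
    have h3 : Nat.beq (deg χ % 3) 0 = true := by
      rw [Nat.beq_eq]
      exact Nat.mod_eq_zero_of_dvd (h.three χ hχ)
    have h4 : good (deg χ * m) = false := by
      rw [Bool.eq_false_iff]
      exact hcon χ hχ
    rw [h3, h4, Bool.not_true, cond_false, cond_false, List.all_eq_true] at h2
    have h5 := h2 (A χ) (h.a χ hχ)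
    rw [natAbs_mod (h.a19 χ hχ), cond_false, List.all_eq_true] at h5
    have h6 := h5 (B χ) (h.b χ hχ)
    rw [natAbs_mod (h.b11 χ hχ), cond_false, decide_eq_true_eq] at h6
    exact h6
  have h2 := Finset.sum_nonneg h1
  simp only [Finset.sum_add_distrib, ← Finset.mul_sum] at h2
  rw [h.sum, h.aa, h.bb, h.ab, h.ad, h.bd, h.fl] at h2
  rw [totL, decide_eq_true_eq] at ht
  linarith

/-- the system -/
theorem exists_sys [Fintype (IrrCharacter N)] {V : Subgroup N} [V.Normal] (hV : Nat.card V = 3) (hc : V ≤ center N)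
    (hp : commutator N = ⊤) (e : (N ⧸ V) ≃* ON) (l : V →* ℂˣ) (hl : ∃ v : V, l v ≠ 1) :
    ∃ A B : IrrCharacter N → ℤ, Sys (ov V l) A B := by
  classical
  obtain ⟨Δ⟩ := H210.On7.exists_data
  have hcard : Nat.card (N ⧸ V) = 460815505920 := by rw [Nat.card_congr e.toEquiv, Δ.card]
  obtain ⟨P, A, hP, a1, a2, a3, a4, a5⟩ := exists_col hV hc l (p := 19) (e := 6) (t := 3) (by norm_num) (by norm_num)
    (by rw [hcard]; norm_num) (loc e (by norm_num) (by rw [hcard]; norm_num) Δ.h19)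
  obtain ⟨Q, B, hQ, b1, b2, b3, b4, -⟩ := exists_col hV hc l (p := 11) (e := 10) (t := 1) (by norm_num) (by norm_num)
    (by rw [hcard]; norm_num) (loc e (by norm_num) (by rw [hcard]; norm_num) Δ.h11)
  have hsum : ∑ χ ∈ ov V l, deg χ * deg χ = NN := by
    have h1 := sum_deg_over hc l
    have h2 := card_eq_card_quotient_mul_card_subgroup V
    rw [hV] at h1 h2
    rw [h2, hcard] at h1
    have h3 : ∑ χ ∈ ov V l, deg χ * deg χ = ∑ χ ∈ ov V l, charDegree (χ : N → ℂ) ^ 2 :=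
      Finset.sum_congr rfl fun χ _ => by unfold deg; ring
    rw [h3]
    show _ = 460815505920
    omega
  have hidx : V.index = NN := hcard
  refine ⟨A, B, ⟨?_, ?_, ?_, ?_, ?_, ?_, ?_, ?_, ?_, ?_, ?_, ?_, ?_, ?_⟩⟩
  · intro χ hχ
    rcases a2 χ hχ with h | h | h | h | h <;> rw [h] <;> simp
  · intro χ hχ
    rcases b2 χ hχ with h | h | h | h | h <;> rw [h] <;> simp
  · intro χ hχ
    have h := dvd_of (a1 χ hχ)
    rw [hP] at h
    exact_mod_cast h
  · intro χ hχ
    have h := dvd_of (b1 χ hχ)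
    rw [hQ] at h
    exact_mod_cast h
  · intro χ hχ
    obtain ⟨v, hv⟩ := hl
    have h1 : (χ : N → ℂ) v = (χ : N → ℂ) 1 * l v := by
      have := mem_ov.1 hχ 1 v
      rwa [one_mul] at this
    have h2 : (l v) ^ 3 = 1 := by rw [← map_pow, ← hV, pow_card_eq_one', map_one]
    haveI : Fact (Nat.Prime 3) := ⟨Nat.prime_three⟩
    have h3 : orderOf (l v) = 3 := orderOf_eq_prime h2 hv
    have h4 := H388.AN.pow_deg_eq_one hp χ.2 (Blocks.Basic.irr_one_eq_charDegree χ.2) (hc v.2) h1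
    rw [← h3]
    apply orderOf_dvd_of_pow_eq_one
    apply Units.ext
    rw [Units.val_pow_eq_pow_val, Units.val_one]
    exact h4
  · intro χ hχ
    rw [← hidx]
    exact H424.DegTools.ito ⟨χ, rfl⟩ V fun a ha b _ => (mem_center_iff.1 (hc ha) b).symm
  · intro χ hχ
    have h1 : deg χ * deg χ ≤ NN := by
      rw [← hsum]
      exact Finset.single_le_sum (f := fun χ : IrrCharacter N => deg χ * deg χ) (fun _ _ => Nat.zero_le _) hχ
    refine lt_of_le_of_ne h1 fun h2 => ?_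
    have h3 : deg χ * deg χ = 460815505920 := h2
    rcases Nat.lt_or_ge (deg χ) 678834 with h4 | h4
    · have h5 : deg χ ≤ 678833 := by omega
      have h6 := Nat.mul_le_mul h5 h5
      omega
    · have h6 := Nat.mul_le_mul h4 h4
      omega
  · have h1 : ((∑ χ ∈ ov V l, deg χ * deg χ : ℕ) : ℤ) = ((NN : ℕ) : ℤ) := by rw [hsum]
    push_cast at h1
    rw [h1]
    rfl
  · rw [a4]; rfl
  · rw [b4]; rfl
  · exact sum_col_col (p := 19) (q := 11) (by norm_num) (by norm_num) (by norm_num) (by norm_num) hQ a3 b1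
  · exact sum_col_deg (p := 19) (by norm_num) a3
  · exact sum_col_deg (p := 11) (by norm_num) b3
  · exact a5 (by norm_num)

theorem good_of_dvd {x : ℕ} (h : 243 ∣ x) : good x = true := by
  have hNN : ¬ 243 ∣ NN := by rw [NN]; norm_num
  have h1 : okX x = false := by
    rw [Bool.eq_false_iff]
    exact fun h1 => hNN (h.trans (okX_dvd h1))
  have h2 : okX (2 * x) = false := by
    rw [Bool.eq_false_iff]
    exact fun h1 => hNN ((h.mul_left 2).trans (okX_dvd h1))
  have h3 : (Nat.beq (x % 2) 0 && okX (x / 2)) = false := by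
    rw [Bool.and_eq_false_iff]
    by_cases h4 : x % 2 = 0
    · right
      rw [Bool.eq_false_iff]
      intro h5
      apply hNN
      refine Dvd.dvd.trans ?_ (okX_dvd h5)
      have h6 : 243 ∣ 2 * (x / 2) := by
        have : 2 * (x / 2) = x := by omega
        rw [this]
        exact h
      exact (Nat.Coprime.dvd_of_dvd_mul_left (by norm_num) h6)
    · left
      rw [Bool.eq_false_iff]
      exact fun h5 => h4 (Nat.eq_of_beq_eq_true h5)
  rw [good, h1, h2, h3]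
  rfl

/-- **The characters nontrivial on the kernel.** -/
theorem core {V : Subgroup N} [V.Normal] (hV : Nat.card V = 3) (hc : V ≤ center N)
    (hp : commutator N = ⊤) (e : (N ⧸ V) ≃* ON) (i : ℕ) :
    ∃ χ : IrrCharacter N, (∃ v ∈ V, (χ : N → ℂ) v ≠ (χ : N → ℂ) 1) ∧
      good (charDegree (χ : N → ℂ) * 3 ^ i) = true := by
  classical
  have := finite_irr (G := N)
  have := Fintype.ofFinite (IrrCharacter N)
  have hb : V ≠ ⊥ := by
    rintro rfl
    rw [Subgroup.card_bot] at hV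
    norm_num at hV
  obtain ⟨l, v, hv⟩ := H109.S8.exists_lin_ne V hb hc
  obtain ⟨A, B, hs⟩ := exists_sys hV hc hp e l ⟨v, hv⟩
  have key : ∃ χ ∈ ov V l, good (deg χ * 3 ^ i) = true := by
    rcases Nat.lt_or_ge i 4 with hi | hi
    · interval_cases i
      · exact hs.exists_good 1 _ _ _ _ _ _ _ tot0 chk0
      · exact hs.exists_good 3 _ _ _ _ _ _ _ tot1 chk1
      · exact hs.exists_good 9 _ _ _ _ _ _ _ tot2 chk2
      · exact hs.exists_good 27 _ _ _ _ _ _ _ tot3 chk3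
    · have h1 : (ov V l).Nonempty := by
        rw [Finset.nonempty_iff_ne_empty]
        intro h
        have h2 := hs.sum
        rw [h, Finset.sum_empty] at h2
        norm_num at h2
      obtain ⟨χ, hχ⟩ := h1
      refine ⟨χ, hχ, good_of_dvd ?_⟩
      have h2 : (243 : ℕ) = 3 * 3 ^ 4 := by norm_num
      rw [h2]
      exact Nat.mul_dvd_mul (hs.three χ hχ) (pow_dvd_pow 3 hi)
  obtain ⟨χ, hχ, hg⟩ := key
  refine ⟨χ, ⟨v, v.2, fun h => hv ?_⟩, hg⟩
  have h1 : (χ : N → ℂ) v = (χ : N → ℂ) 1 * l v := by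
    have := mem_ov.1 hχ 1 v
    rwa [one_mul] at this
  rw [h] at h1
  have h2 : (χ : N → ℂ) 1 * 1 = (χ : N → ℂ) 1 * l v := by rw [mul_one]; exact h1
  exact (Units.ext (mul_left_cancel₀ (isIrr_apply_one_ne_zero χ.2) h2)).symm

end

end Cfsg.Agent.H489.S8.ONCore
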