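import Cfsg.Agent.H849.RIM.RegCount
import Cfsg.Agent.H653.Sieve.Prime
import Cfsg.Agent.H382.RIM.Tool
import Cfsg.Agent.H908.RIM.Eng

/-!
# The columns of the primes dividing `|G / K|` exactly once, over a character of the centre (helper489)

`P` Sylow of prime order `p`, `C(P) = P × K`, `K` central, `c : K →* ℂˣ`, `e = |N(P) : C(P)|`, `e * t = p - 1`.

* `exists_col_over` : the column `W χ = e⁻¹ ∑_{x ∈ P, x ≠ 1} χ x` of the characters over `c`.
-/

set_option autoImplicit false
set_option linter.unusedSectionVars false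

namespace Cfsg.Agent.H489.S8

open Cfsg Subgroup
open Cfsg.Agent.Characters.Core
open Cfsg.Agent.SmallSimple.ThetaSetup Cfsg.Agent.SmallSimple.ThetaOrtho Cfsg.Agent.SmallSimple.ThetaCount
open Cfsg.Agent.SmallSimple.TheoremC Cfsg.Agent.SmallSimple.TheoremCCor
open Cfsg.Agent.H622.Over Cfsg.Agent.H382.RIM
open Cfsg.Agent.H653.Sieve (csum csum_eq_erase deg deg_cast)
open scoped ComplexConjugate

universe u

variable {G : Type u} [Group G] [Finite G] {p : ℕ} [Fact p.Prime] {P : Sylow p G} {K : Subgroup G}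

/-- `part` of a character over `c`. -/
theorem part_over {c : K →* ℂˣ} {χ : IrrCharacter G} (hχ : Lies K c (χ : G → ℂ)) (x : G) :
    part (fun k : K => (c k : ℂ)) (χ : G → ℂ) x = (χ : G → ℂ) x := by
  classical
  have := Fintype.ofFinite K
  have hK0 : (Nat.card K : ℂ) ≠ 0 := by exact_mod_cast Nat.card_pos.ne'
  rw [part_eq, Finset.sum_congr rfl (g := fun _ => (χ : G → ℂ) x), Finset.sum_const, Finset.card_univ,
    ← Nat.card_eq_fintype_card, nsmul_eq_mul, inv_mul_cancel_left₀ hK0]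
  intro y _
  rw [hχ x y, mul_assoc, hom_mul_conj, mul_one]

/-- **The column over `c`.** -/
theorem exists_col_over [Fintype (IrrCharacter G)] (hK : IsComp p (P : Subgroup G) K) (hP : Nat.card P = p)
    (hKc : K ≤ center G) {e t : ℕ}
    (he : (centralizer ((P : Subgroup G) : Set G)).relIndex (normalizer ((P : Subgroup G) : Set G)) = e)
    (ht : e * t = p - 1) (c : K →* ℂˣ) :
    ∃ W : IrrCharacter G → ℤ, (∀ χ ∈ ov K c, (e : ℂ) * W χ = csum (P : Subgroup G) (χ : G → ℂ)) ∧
      (∀ χ ∈ ov K c, W χ = 0 ∨ W χ = t ∨ W χ = -t ∨ W χ = 1 ∨ W χ = -1) ∧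
      (∀ g : G, ¬ p ∣ orderOf g → ∑ χ ∈ ov K c, (W χ : ℂ) * (χ : G → ℂ) g = 0) ∧
      ∑ χ ∈ ov K c, W χ * W χ = (t * p : ℕ) ∧
      (t ≠ 1 → ∑ χ ∈ ov K c, (bif Nat.beq (W χ).natAbs 1 then (1 : ℤ) else 0) = t) := by
  classical
  have hpp : p.Prime := Fact.out
  have hp2 := hpp.two_le
  have hPf := Fintype.ofFinite (P : Subgroup G)
  have hθ : IsIrrCharacter K (fun k : K => (c k : ℂ)) := H908.RIM.isIrr_lin c
  have hst : ∀ n ∈ normalizer ((P : Subgroup G) : Set G), tw (fun k : K => (c k : ℂ)) n = fun k : K => (c k : ℂ) := by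
    intro n hn
    funext y
    rw [tw_apply hK _ hn]
    have h1 : (⟨n * y * n⁻¹, conj_mem hK hn y.2⟩ : K) = y := by
      apply Subtype.ext
      change n * (y : G) * n⁻¹ = y
      rw [mem_center_iff.1 (hKc y.2) n, mul_inv_cancel_right]
    rw [h1]
  have hstab : Nat.card (stabAct hK (fun k : K => (c k : ℂ))) = e := by
    rw [card_stabAct_of_stable hK hP hθ hst, he]
  obtain ⟨NE, X, ε, d, S, hB, hdisj, hNE, hX, hε, hd, hval, hvalX, -, -, hreg⟩ := theoremC hK hP hθ hstab ht
  have he0 : e ≠ 0 := by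
    rintro rfl
    omega
  have ht0 : t ≠ 0 := by
    rintro rfl
    omega
  have heC : (e : ℂ) ≠ 0 := by exact_mod_cast he0
  -- the members lie over `c`
  have hlies : ∀ χ : IrrCharacter G, χ ∈ Over P (fun k : K => (c k : ℂ)) → χ ∈ ov K c := by
    intro χ h
    rw [mem_ov]
    refine H849.RIM.lies_of_over hKc le_rfl hθ ?_ h
    intro y y' z hy
    have h1 : y' = y * z := Subtype.ext hy
    change ((c y' : ℂˣ) : ℂ) = (c y : ℂ) * (c z : ℂ)
    rw [h1, map_mul, Units.val_mul]
  have hNEo : NE ⊆ ov K c := fun χ h => hlies χ ((hB χ).2 (Or.inl h))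
  have hXo : X ⊆ ov K c := fun χ h => hlies χ ((hB χ).2 (Or.inr h))
  -- the column
  let W : IrrCharacter G → ℤ := fun χ => if χ ∈ NE then t * ε χ else if χ ∈ X then -d else 0
  have hWN : ∀ χ ∈ NE, W χ = t * ε χ := fun χ h => if_pos h
  have hWX : ∀ χ ∈ X, W χ = -d := by
    intro χ h
    have h1 : χ ∉ NE := fun h1 => Finset.disjoint_left.1 hdisj h1 h
    simp only [W]
    rw [if_neg h1, if_pos h]
  have hW0 : ∀ χ : IrrCharacter G, χ ∉ NE → χ ∉ X → W χ = 0 := by
    intro χ h1 h2
    simp only [W]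
    rw [if_neg h1, if_neg h2]
  -- sums over the characters over `c`
  have hsum : ∀ {M : Type} [AddCommMonoid M] (f : IrrCharacter G → M), (∀ χ, χ ∉ NE → χ ∉ X → f χ = 0) →
      ∑ χ ∈ ov K c, f χ = ∑ χ ∈ NE, f χ + ∑ χ ∈ X, f χ := by
    intro M _ f hf
    rw [← Finset.sum_union hdisj]
    symm
    refine Finset.sum_subset (Finset.union_subset hNEo hXo) fun χ _ h => hf χ ?_ ?_
    · exact fun h1 => h (Finset.mem_union_left _ h1)
    · exact fun h1 => h (Finset.mem_union_right _ h1)
  have hεs : ∀ χ ∈ NE, ε χ * ε χ = 1 := by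
    intro χ h
    rcases hε χ h with h1 | h1 <;> rw [h1] <;> norm_num
  have hds : d * d = 1 := by
    rcases hd with h1 | h1 <;> rw [h1] <;> norm_num
  refine ⟨W, ?_, ?_, ?_, ?_, ?_⟩
  · -- the values
    intro χ hχ
    have hl := mem_ov.1 hχ
    by_cases h1 : χ ∈ NE
    · rw [hWN χ h1, csum_eq_erase, Finset.sum_congr rfl (g := fun _ => (ε χ : ℂ)), Finset.sum_const,
        Finset.card_erase_of_mem (Finset.mem_univ _), Finset.card_univ, ← Nat.card_eq_fintype_card,
        show Nat.card (P : Subgroup G) = p from hP, ← ht, nsmul_eq_mul]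
      · push_cast
        ring
      · intro x hx
        rw [← part_over hl x]
        exact hval χ h1 x (Finset.mem_erase.1 hx).1
    by_cases h2 : χ ∈ X
    · obtain ⟨hSc, hS1, -, hSv⟩ := hvalX χ h2
      have h3 := SmallSimple.TheoremBCor.sum_exc_off
        (f := fun x : (P : Subgroup G) => part (fun k : K => (c k : ℂ)) (χ : G → ℂ) x) (d := (d : ℂ)) hS1 hSv
      rw [hSc] at h3
      rw [← Finset.add_sum_erase _ _ (Finset.mem_univ (1 : (P : Subgroup G)))] at h3
      rw [hWX χ h2, csum_eq_erase, Finset.sum_congr rfl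
        (g := fun x : (P : Subgroup G) => part (fun k : K => (c k : ℂ)) (χ : G → ℂ) x)
        fun x _ => (part_over hl (x : G)).symm]
      push_cast
      linear_combination -h3
    · rw [hW0 χ h1 h2, csum_eq_erase, Finset.sum_eq_zero]
      · simp
      · intro x hx
        rw [← part_over hl x]
        refine part_eq_zero ?_ (Finset.mem_erase.1 hx).1
        intro h
        rcases (hB χ).1 h with h | h
        · exact h1 h
        · exact h2 h
  · intro χ _
    by_cases h1 : χ ∈ NE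
    · rw [hWN χ h1]
      rcases hε χ h1 with h3 | h3
      · right; left; rw [h3, mul_one]
      · right; right; left; rw [h3]; ring
    by_cases h2 : χ ∈ X
    · rw [hWX χ h2]
      rcases hd with h3 | h3
      · right; right; right; right; rw [h3]
      · right; right; right; left; rw [h3]; norm_num
    · left; exact hW0 χ h1 h2
  · intro g hg
    rw [hsum (fun χ => (W χ : ℂ) * (χ : G → ℂ) g) fun χ h1 h2 => by rw [hW0 χ h1 h2]; simp]
    obtain ⟨Θ, hΘ⟩ : X.Nonempty := by
      rw [← Finset.card_pos, hX]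
      omega
    have h1 : ∑ χ ∈ NE, (W χ : ℂ) * (χ : G → ℂ) g = t * (d * (Θ : G → ℂ) g) := by
      rw [← hreg Θ hΘ g hg, Finset.mul_sum]
      refine Finset.sum_congr rfl fun χ h => ?_
      rw [hWN χ h]
      push_cast
      ring
    have h2 : ∑ χ ∈ X, (W χ : ℂ) * (χ : G → ℂ) g = t * (-(d * (Θ : G → ℂ) g)) := by
      rw [Finset.sum_congr rfl (g := fun _ => -((d : ℂ) * (Θ : G → ℂ) g)), Finset.sum_const, hX, nsmul_eq_mul]
      intro χ h
      rw [hWX χ h, ← hreg Θ hΘ g hg, hreg χ h g hg]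
      push_cast
      ring
    rw [h1, h2]
    ring
  · rw [hsum (fun χ => W χ * W χ) fun χ h1 h2 => by rw [hW0 χ h1 h2]; ring]
    have h1 : ∑ χ ∈ NE, W χ * W χ = e * (t * t) := by
      rw [Finset.sum_congr rfl (g := fun _ => ((t : ℤ) * t)), Finset.sum_const, hNE, nsmul_eq_mul]
      intro χ h
      rw [hWN χ h]
      linear_combination (t : ℤ) * t * hεs χ h
    have h2 : ∑ χ ∈ X, W χ * W χ = t := by
      rw [Finset.sum_congr rfl (g := fun _ => (1 : ℤ)), Finset.sum_const, hX, nsmul_eq_mul, mul_one]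
      intro χ h
      rw [hWX χ h]
      linear_combination hds
    rw [h1, h2]
    have h3 : p = e * t + 1 := by omega
    have h4 : (p : ℤ) = e * t + 1 := by exact_mod_cast h3
    rw [Nat.cast_mul, h4]
    ring
  · intro ht1
    rw [hsum (fun χ => (bif Nat.beq (W χ).natAbs 1 then (1 : ℤ) else 0)) fun χ h1 h2 => by
      rw [hW0 χ h1 h2]; rfl]
    have h1 : ∑ χ ∈ NE, (bif Nat.beq (W χ).natAbs 1 then (1 : ℤ) else 0) = 0 := by
      refine Finset.sum_eq_zero fun χ h => ?_
      have h2 : (W χ).natAbs = t := by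
        rw [hWN χ h, Int.natAbs_mul, Int.natAbs_natCast]
        rcases hε χ h with h3 | h3 <;> rw [h3] <;> simp
      have h3 : Nat.beq (W χ).natAbs 1 = false := by
        rw [h2, Bool.eq_false_iff]
        exact fun h4 => ht1 (Nat.eq_of_beq_eq_true h4)
      rw [h3, cond_false]
    have h2 : ∑ χ ∈ X, (bif Nat.beq (W χ).natAbs 1 then (1 : ℤ) else 0) = t := by
      rw [Finset.sum_congr rfl (g := fun _ => (1 : ℤ)), Finset.sum_const, hX, nsmul_eq_mul, mul_one]
      intro χ h
      have h3 : (W χ).natAbs = 1 := by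
        rw [hWX χ h]
        rcases hd with h3 | h3 <;> rw [h3] <;> rfl
      rw [h3]
      rfl
    rw [h1, h2, zero_add]

end Cfsg.Agent.H489.S8
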